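import Mathlib
import Cfsg.Agent.Lib.Helper95.BG.S1428Defs
import Cfsg.Agent.Lib.Helper95.BG.S1428KS
import Cfsg.Agent.Lib.Helper13.BG.S1428X
import Cfsg.Agent.Lib.Helper29.BG.LemK
import Cfsg.Agent.Lib.Helper74.BG.S1425Core
import Cfsg.Agent.Lib.Helper66.BG.S1350Core
import Cfsg.Agent.Lib.Helper78.BG.S1405Core
import Cfsg.Agent.Lib.Helper13.BG.S1427A
import Cfsg.Agent.Lib.Helper27.BG.SigmaBasic
import Cfsg.Agent.Lib.Helper67.BG.Basics
import Cfsg.Agent.Lib.Helper20.Tame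
import Cfsg.Agent.S0025

/-!
# S1428 project (helper95), package MC (helper75)

The `M`-side of the proof of Bender–Glauberman 13.4: from the data produced by packages MA and MB
we get `r ∈ τ₁(M)`, `[M_σ, P] ≤ M_β`, `C_{M_σ}(R) ⊄ C(P)` and `[M_σ, R] ⊄ M_β`
(steps (I), (K), (N), (M) of helper95's note 1957).
-/

set_option autoImplicit false

namespace Cfsg.Agent.Lib.Helper75.BG

open Cfsg Cfsg.Agent.Lib.Helper46 Cfsg.Agent.Lib.Helper35.BG Cfsg.Agent.Lib.Helper95.BG28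
open scoped commutatorElement

universe u

section aux

variable {G : Type u} [Group G]

/-- `PRankLE` passes to smaller subgroups. -/
theorem pRankLE_mono_sub {U H : Subgroup G} (hUH : U ≤ H) {p k : ℕ} (h : PRankLE p k H) :
    PRankLE p k U := by
  rw [Cfsg.Agent.Lib.Helper24.pRankLE_subgroup_iff] at h ⊢
  intro A hAU hcomm hexp
  exact h A (hAU.trans hUH) hcomm hexp

/-- An element of a subgroup of order `n` has `n`-th power one. -/
theorem pow_card_eq_one_of_mem75 [Finite G] {P : Subgroup G} {x : G} (hx : x ∈ P) :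
    x ^ Nat.card P = 1 := by
  have h := pow_card_eq_one' (G := P) (x := ⟨x, hx⟩)
  exact congrArg Subtype.val h

/-- A subgroup of prime order `p` all of whose prime divisors... : the only prime divisor of
`|P|` is `p`. -/
theorem prime_dvd_card_eq {P : Subgroup G} {p q : ℕ} (hP : Nat.card P = p) (hp : p.Prime)
    (hq : q.Prime) (hdvd : q ∣ Nat.card P) : q = p := by
  rw [hP] at hdvd
  exact (Nat.prime_dvd_prime_iff_eq hq hp).mp hdvd

/-- A subgroup of prime order is not trivial. -/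
theorem ne_bot_of_card_prime {P : Subgroup G} {p : ℕ} (hP : Nat.card P = p) (hp : p.Prime) :
    P ≠ ⊥ := by
  intro h
  rw [h, Subgroup.card_bot] at hP
  exact hp.one_lt.ne hP

end aux

/-- Package MC of the S1428 project. -/
theorem lemMC : Cfsg.Agent.Lib.Helper95.BG28.LemMC.{u} := by
  intro hT hK hSyl hDer hF0 G _ _ hG hy M E P R p r cx H hH hNP hnc hpH hid hrH t Q htM hQt hQ1
    hQM hRQ hfpf hQc hCQ hNQ
  have hM : IsCoatom M := cx.hM
  have hp : p.Prime := cx.hp.1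
  have hr : r.Prime := cx.hr
  have htp : t.Prime := htM.1
  have : Fact p.Prime := ⟨hp⟩
  have : Fact r.Prime := ⟨hr⟩
  have : Fact t.Prime := ⟨htp⟩
  have hHM : H ≠ M := by
    intro h
    exact hnc 1 (by rw [h, Cfsg.Agent.Lib.Helper35.BG.map_conj_one])
  have hMσM : sigmaCore M ≤ M := Cfsg.Agent.Lib.Helper67.BG.sigmaCore_le M
  have hPM : P ≤ M := cx.hPE.trans cx.hE.1
  have hRM : R ≤ M := cx.hRE.trans cx.hE.1
  have hPH : P ≤ H := Subgroup.le_normalizer.trans hNP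
  have hQMM : Q ≤ M := hQM.trans hMσM
  have hHallM := (Cfsg.Agent.Lib.Helper66.BG.s1350_core hG hy.h1404 hy.h1405 M hM).1
  have hHallH := (Cfsg.Agent.Lib.Helper66.BG.s1350_core hG hy.h1404 hy.h1405 H hH).1
  have hP1 : P ≠ ⊥ := ne_bot_of_card_prime cx.hP hp
  have hR1 : R ≠ ⊥ := ne_bot_of_card_prime cx.hR hr
  have hPσH : P ≤ sigmaCore H :=
    Cfsg.Agent.Lib.Helper74.BG.le_sigmaCore_of_le hHallH hPH (fun q hq hdvd => by
      rw [prime_dvd_card_eq cx.hP hp hq hdvd]; exact hpH)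
  have hβσ : ∀ (L : Subgroup G), IsCoatom L → ∀ q : ℕ, q ∈ beta L → q ∈ sigma L :=
    fun L hL q hq => Cfsg.Agent.Lib.Helper78.BG.alpha_subset_sigma hG hy.h1403 L hL hq.1
  -- step (I): Lemma T
  obtain ⟨-, hcase⟩ := hT hG hy M H hM hH hHM t htM Q hQt hQ1 hQMM hNQ
  have hσcase : ∃ S : Subgroup G, Q ≤ S ∧ IsSylowIn t S ⊤ ∧
      Subgroup.normalizer (S : Set G) ≤ M ∧ Subgroup.normalizer (S : Set G) ≤ H ∧
      t ∉ beta M ∧ t ∉ beta H := by
    rcases hcase with ⟨-, h⟩ | ⟨-, hHσM, -⟩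
    · exact h
    · exfalso
      apply hP1
      rw [eq_bot_iff, ← hHσM]
      exact le_inf hPσH hPM
  obtain ⟨S, hQS, hStop, hNSM, hNSH, htβM, htβH⟩ := hσcase
  obtain ⟨S₀, hS₀⟩ := Cfsg.Agent.Lib.Helper24.BG31.exists_sylow_of_sylIn_top hStop
  have hSt : IsPGroup t S := sylIn_isPGroup hStop
  have hSM : S ≤ M := Subgroup.le_normalizer.trans hNSM
  have hSH : S ≤ H := Subgroup.le_normalizer.trans hNSH
  -- `M_β`
  obtain ⟨Mβ, hMβdef⟩ : ∃ Mβ : Subgroup G, Mβ = piCoreOf (beta M) M := ⟨_, rfl⟩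
  have hMβM : Mβ ≤ M := hMβdef ▸ betaCore_le M
  have hMNβ : M ≤ Subgroup.normalizer (Mβ : Set G) := hMβdef ▸ le_normalizer_betaCore M
  have hMβpi : ∀ q : ℕ, q.Prime → q ∣ Nat.card Mβ → q ∈ beta M := by
    rw [hMβdef]; exact Cfsg.Agent.Lib.Helper23.piCoreOf_isPi (beta M) M
  have hMβσ : Mβ ≤ sigmaCore M :=
    Cfsg.Agent.Lib.Helper74.BG.le_sigmaCore_of_le hHallM hMβM
      (fun q hq hdvd => hβσ M hM q (hMβpi q hq hdvd))
  have hKM : M = Mβ ⊔ Subgroup.normalizer (S : Set G) := by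
    rw [hMβdef]; exact hK hG hy M hM t htp htβM S hStop hNSM
  -- `r ∉ σ(M)`, `r ∉ β(M)`, `r ∉ β(H)`
  have hrσM : r ∉ sigma M := by
    intro hrσ
    have h1 : R ≤ sigmaCore M :=
      Cfsg.Agent.Lib.Helper74.BG.le_sigmaCore_of_le hHallM hRM (fun q hq hdvd => by
        rw [prime_dvd_card_eq cx.hR hr hq hdvd]; exact hrσ)
    apply hR1
    rw [eq_bot_iff, ← cx.hE.2.2.1]
    exact le_inf cx.hRE h1
  have hrβM : r ∉ beta M := fun h => hrσM (hβσ M hM r h)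
  have hrβH : r ∉ beta H := fun h => hrH.2.1 (hβσ H hH r h)
  -- (iv)
  have hiv : ¬ ⁅sigmaCore M, R⁆ ≤ piCoreOf (beta M) M := by
    intro h
    rw [← hMβdef] at h
    have h1 : t ∣ Nat.card Q := Cfsg.Agent.Lib.Helper67.BG.dvd_card_of_isPGroup_ne_bot hQt hQ1
    exact htβM (hMβpi t htp (h1.trans (Subgroup.card_dvd_of_le (hQc.trans h))))
  -- (ii)
  have hpσM : p ∉ sigma M := cx.hp.2.1
  have hpτH : p ∉ tau1 H := fun h => h.2.1 hpH
  have hii : ⁅sigmaCore M, P⁆ ≤ piCoreOf (beta M) M := by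
    rw [← hMβdef, Subgroup.commutator_le]
    intro m hm x hx
    have hm' : m⁻¹ ∈ Subgroup.normalizer (S : Set G) ⊔ Mβ := by
      rw [sup_comm, ← hKM]; exact M.inv_mem (hMσM hm)
    obtain ⟨n, hn, b, hb, hmnb⟩ := Cfsg.Agent.Lib.Helper20.mem_sup_of_le_normalizer _ _
      (hNSM.trans hMNβ) _ hm'
    have hnσ : n ∈ sigmaCore M := by
      have e : n = m⁻¹ * b⁻¹ := by rw [hmnb]; group
      rw [e]
      exact (sigmaCore M).mul_mem ((sigmaCore M).inv_mem hm) ((sigmaCore M).inv_mem (hMβσ hb))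
    have hxp : x ^ p = 1 := by
      have := pow_card_eq_one_of_mem75 hx
      rwa [cx.hP] at this
    have hcomm : n * x = x * n :=
      Cfsg.Agent.Lib.Helper13.BG.lemX_pkg hG hy M H hM hH hnc p hp hpσM hpτH n x hnσ (hNSH hn)
        (hPM hx) (hPH hx) hxp
    -- `m = b⁻¹ * n⁻¹`
    have hmeq : m = b⁻¹ * n⁻¹ := by
      have : m = (m⁻¹)⁻¹ := (inv_inv m).symm
      rw [this, hmnb]; group
    have hxN := hMNβ (hPM hx)
    have h2 : x * b * x⁻¹ ∈ Mβ := (Subgroup.mem_normalizer_iff.mp hxN b).mp hb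
    have hcomm' : n⁻¹ * x * n = x := by
      have : n⁻¹ * x * n = n⁻¹ * (x * n) := by group
      rw [this, ← hcomm]; group
    have e : ⁅m, x⁆ = b⁻¹ * (x * b * x⁻¹) := by
      rw [commutatorElement_def, hmeq]
      have : b⁻¹ * n⁻¹ * x * (b⁻¹ * n⁻¹)⁻¹ * x⁻¹ = b⁻¹ * (n⁻¹ * x * n) * b * x⁻¹ := by group
      rw [this, hcomm']; group
    rw [e]
    exact Mβ.mul_mem (Mβ.inv_mem hb) h2
  -- (i)
  have hi : r ∈ tau1 M := by
    refine ⟨hr, hrσM, ?_, ?_, ?_⟩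
    · rw [← cx.hR]; exact Subgroup.card_dvd_of_le hRM
    · intro hdvd
      have h1 := hDer hG hy M hM t htp htβM S hStop hNSM r hr hrβM hdvd
      have h2 : ⁅Subgroup.normalizer (S : Set G), Subgroup.normalizer (S : Set G)⁆ ≤ ⁅H, H⁆ :=
        Subgroup.commutator_mono hNSH hNSH
      exact hrH.2.2.2.1 (h1.trans (Subgroup.card_dvd_of_le h2))
    · obtain ⟨U, hUM, hUH⟩ := hSyl hG hy M H hM hH t htp htβM htβH S hStop hNSM hNSH r hr
        hrβM hrβH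
      exact pRankLE_of_isSylowIn hUM (pRankLE_mono_sub hUH.1 hrH.2.2.2.2)
  refine ⟨hi, hii, ?_, hiv⟩
  -- (iii)
  intro hle
  -- `M_β ≠ 1`
  have hMβ1 : Mβ ≠ ⊥ := by
    intro h
    rw [h, bot_sup_eq] at hKM
    have hMH : M ≤ H := by rw [hKM]; exact hNSH
    have : M = H := by
      by_contra hne
      exact hH.1 (hM.2 H (lt_of_le_of_ne hMH hne))
    exact hHM this.symm
  obtain ⟨s, hs, hsdvd⟩ := Nat.exists_prime_and_dvd
    (fun h => hMβ1 (Subgroup.eq_bot_of_card_eq Mβ h))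
  have hsβ : s ∈ beta M := hMβpi s hs hsdvd
  have hsσ : s ∈ sigma M := hβσ M hM s hsβ
  have : Fact s.Prime := ⟨hs⟩
  have hts : t ≠ s := fun h => htβM (h ▸ hsβ)
  have hrs : r ≠ s := fun h => hrβM (h ▸ hsβ)
  -- a `QR`-invariant Sylow `s`-subgroup of `M_β`
  have hRQM : R ⊔ Q ≤ M := sup_le hRM hQMM
  have hcop : (Nat.card ↥(R ⊔ Q)).Coprime (Nat.card Mβ) := by
    rw [Nat.coprime_iff_gcd_eq_one]
    by_contra hne
    obtain ⟨q, hq, hqdvd⟩ := Nat.exists_prime_and_dvd hne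
    have h1 : q ∣ Nat.card ↥(R ⊔ Q) := hqdvd.trans (Nat.gcd_dvd_left _ _)
    have h2 : q ∈ beta M := hMβpi q hq (hqdvd.trans (Nat.gcd_dvd_right _ _))
    have h3 : q ∣ Nat.card R * Nat.card Q :=
      h1.trans (Cfsg.Agent.Lib.Helper27.BG.card_sup_dvd_mul hRQ)
    rcases (Nat.Prime.dvd_mul hq).mp h3 with h4 | h4
    · rw [cx.hR] at h4
      exact hrβM (((Nat.prime_dvd_prime_iff_eq hq hr).mp h4) ▸ h2)
    · obtain ⟨k, hk⟩ := IsPGroup.iff_card.mp hQt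
      rw [hk] at h4
      exact htβM (((Nat.prime_dvd_prime_iff_eq hq htp).mp (hq.dvd_of_dvd_pow h4)) ▸ h2)
  have hMβtop : Mβ ≠ ⊤ := fun h => hM.1 (top_le_iff.mp (h ▸ hMβM))
  have hsolv : Group.IsSolvable Mβ := isSolvable_of_ne_top hG hMβtop
  obtain ⟨T₀, -, hT₀N⟩ := Cfsg.Agent.S0025.result (R ⊔ Q) Mβ (hRQM.trans hMNβ) hcop
    (Or.inr hsolv) s ⊥ bot_le IsPGroup.of_bot (by
      intro g _
      rw [Subgroup.mem_normalizer_iff]
      intro x
      simp)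
  obtain ⟨T, hTdef⟩ : ∃ T : Subgroup G, T = (T₀ : Subgroup Mβ).map Mβ.subtype := ⟨_, rfl⟩
  rw [← hTdef] at hT₀N
  have hTsyl : IsSylowIn s T Mβ := hTdef ▸ isSylowIn_of_sylow T₀
  have hTs : IsPGroup s T := sylIn_isPGroup hTsyl
  have hTMβ : T ≤ Mβ := hTsyl.1
  -- `T` is a Sylow `s`-subgroup of `M` and of `M_σ`
  have hHallβ := (hy.h1414 M hM).1
  have hTsylM : IsSylowIn s T M :=
    Cfsg.Agent.Lib.Helper74.BG.isSylowIn_of_isSylowIn_of_not_dvd hTsyl hMβM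
      (hMβdef ▸ hHallβ.2.2 s hs hsβ)
  have hTsylσ : IsSylowIn s T (sigmaCore M) := sylIn_mono hTsylM (hTMβ.trans hMβσ) hMσM
  obtain ⟨Pσ, hPσ⟩ := hTsylσ.exists_sylow
  -- a subgroup of order `s` of `M`
  have hsM : s ∣ Nat.card M := hsdvd.trans (Subgroup.card_dvd_of_le hMβM)
  obtain ⟨X₀, hX₀⟩ := Sylow.exists_subgroup_card_pow_prime (G := M) s
    (show s ^ 1 ∣ Nat.card M by rw [pow_one]; exact hsM)
  have hXcard : Nat.card (X₀.map M.subtype) = s := by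
    rw [Subgroup.card_map_of_injective M.subtype_injective, hX₀, pow_one]
  have h23 := hy.h1423 M hM s hsσ (X₀.map M.subtype) (Subgroup.map_subtype_le _) hXcard Pσ
    (Or.inl hsβ)
  rw [hPσ] at h23
  obtain ⟨L, -, hLuniq⟩ := h23.2.1
  have hTM : T ≤ M := hTMβ.trans hMβM
  have hTH : ¬ T ≤ H := by
    intro hTH
    exact hHM ((hLuniq H ⟨hH, hTH⟩).trans (hLuniq M ⟨hM, hTM⟩).symm)
  have hQT : ¬ Q ≤ Subgroup.centralizer (T : Set G) := by
    intro h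
    exact hTH ((Subgroup.le_centralizer_iff.mp h).trans hCQ)
  -- Lemma F0
  obtain ⟨u, huT, huR, huQ⟩ := hF0 s r hs hr hrs T Q R hTs (le_sup_right.trans hT₀N)
    (le_sup_left.trans hT₀N) hRQ cx.hR hfpf (by
      obtain ⟨k, hk⟩ := IsPGroup.iff_card.mp hQt
      rw [hk]
      exact Nat.Coprime.pow_left k ((Nat.coprime_primes htp hs).mpr hts)) hQT
  -- `u ∈ M_β ∩ H`
  have huMβ : u ∈ Mβ := hTMβ huT
  have huP : u ∈ Subgroup.centralizer (P : Set G) :=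
    hle (Subgroup.mem_inf.mpr ⟨hMβσ huMβ, huR⟩)
  have huH : u ∈ H := hNP (centralizer_le_normalizer' P huP)
  -- `M_β ∩ H ≤ C(Q)`
  apply huQ
  have hauxH := Cfsg.Agent.Lib.Helper29.BG.lemK_aux hG hy.h1411 hy.h1414 H hH t S₀
    (by rw [hS₀]; exact hNSH) htβH
  rw [hS₀] at hauxH
  obtain ⟨-, hWN, -⟩ := hauxH
  obtain ⟨W, hWdef⟩ : ∃ W : Subgroup G, W = (⁅H, H⁆ ⊓ piCoreOf (beta H) H) ⊔ S := ⟨_, rfl⟩
  rw [← hWdef] at hWN
  have hSW : S ≤ W := hWdef ▸ le_sup_right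
  -- coprimality of `M_β` and `W`
  have hHβpi : ∀ q : ℕ, q.Prime → q ∣ Nat.card ↥(piCoreOf (beta H) H) → q ∈ beta H :=
    Cfsg.Agent.Lib.Helper23.piCoreOf_isPi (beta H) H
  have hSB : S ≤ Subgroup.normalizer ((⁅H, H⁆ ⊓ piCoreOf (beta H) H : Subgroup G) : Set G) := by
    intro g hg
    exact Cfsg.Agent.Lib.Helper29.BG.mem_normalizer_inf_K
      (Cfsg.Agent.Lib.Helper29.BG.le_normalizer_commutator_self H (hSH hg))
      (le_normalizer_betaCore H (hSH hg))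
  have hinf : Mβ ⊓ W = ⊥ := by
    by_contra hne
    obtain ⟨q, hq, hqdvd⟩ := Nat.exists_prime_and_dvd
      (fun h => hne (Subgroup.eq_bot_of_card_eq _ h))
    have h1 : q ∈ beta M := hMβpi q hq (hqdvd.trans (Subgroup.card_dvd_of_le inf_le_left))
    have h2 : q ∣ Nat.card W := hqdvd.trans (Subgroup.card_dvd_of_le inf_le_right)
    have h3 : q ∣ Nat.card S * Nat.card ↥(⁅H, H⁆ ⊓ piCoreOf (beta H) H) := by
      rw [hWdef, sup_comm] at h2
      exact h2.trans (Cfsg.Agent.Lib.Helper27.BG.card_sup_dvd_mul hSB)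
    rcases (Nat.Prime.dvd_mul hq).mp h3 with h4 | h4
    · obtain ⟨k, hk⟩ := IsPGroup.iff_card.mp hSt
      rw [hk] at h4
      exact htβM (((Nat.prime_dvd_prime_iff_eq hq htp).mp (hq.dvd_of_dvd_pow h4)) ▸ h1)
    · have h5 : q ∈ beta H := hHβpi q hq (h4.trans (Subgroup.card_dvd_of_le inf_le_right))
      exact Cfsg.Agent.Lib.Helper13.BG.alpha_sigma_disjoint hG hy.h1403 hM hH hnc h5.1
        (hβσ M hM q h1)
  rw [Subgroup.mem_centralizer_iff]
  intro q hq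
  have hqS : q ∈ S := hQS hq
  have hc1 : q * u * q⁻¹ * u⁻¹ ∈ Mβ := by
    have h1 := (Subgroup.mem_normalizer_iff.mp (hMNβ (hQMM hq)) u).mp huMβ
    exact Mβ.mul_mem h1 (Mβ.inv_mem huMβ)
  have hc2 : q * u * q⁻¹ * u⁻¹ ∈ W := by
    have h1 := (Subgroup.mem_normalizer_iff.mp (hWN huH) q⁻¹).mp (W.inv_mem (hSW hqS))
    have e : q * u * q⁻¹ * u⁻¹ = q * (u * q⁻¹ * u⁻¹) := by group
    rw [e]
    exact W.mul_mem (hSW hqS) h1
  have hc : q * u * q⁻¹ * u⁻¹ = 1 := by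
    have : q * u * q⁻¹ * u⁻¹ ∈ Mβ ⊓ W := Subgroup.mem_inf.mpr ⟨hc1, hc2⟩
    rw [hinf] at this
    exact Subgroup.mem_bot.mp this
  have e : q * u = (q * u * q⁻¹ * u⁻¹) * (u * q) := by group
  rw [e, hc, one_mul]

end Cfsg.Agent.Lib.Helper75.BG
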