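import Mathlib
import Cfsg.Statements.S1403
import Cfsg.Statements.S1404
import Cfsg.Statements.S1405
import Cfsg.Statements.S1417
import Cfsg.Statements.S1418
import Cfsg.Statements.S1420
import Cfsg.Statements.S1424
import Cfsg.Agent.Lib.Helper13.BG.S1427A
import Cfsg.Agent.Lib.Helper27.BG.SigmaBasic
import Cfsg.Agent.Lib.Helper76.BG.S1420Core
import Cfsg.Agent.Lib.Helper78.BG.S1405Core
import Cfsg.Agent.Lib.Helper2.BG.S1424Core
import Cfsg.Agent.Lib.Helper66.BG.S1350Core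

/-!
# Bender–Glauberman: "Lemma T" (package T of the S1428 project, helper75)

`t ∈ σ(M)`, `X ≠ 1` a `t`-subgroup of `M`, `L ≠ M` a maximal subgroup over `N_G(X)`,
`S` a Sylow `t`-subgroup of `M ∩ L` over `X`.  Then `L` is not conjugate to `M`, `S` is a Sylow
`t`-subgroup of `L`, `N_G(S) ≤ M`, and either

* (σ-case) `t ∈ σ(L)`, `S` is a Sylow `t`-subgroup of `G`, `N_G(S) ≤ M ∩ L`,
  `t ∉ α(M) ∪ α(L)`; or
* (τ₂-case) `t ∈ τ₂(L)`, `L_σ` is nilpotent, `L_σ ∩ M = 1`, `S` is not cyclic, and for every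
  elementary abelian `B ≤ S` of order `t ^ 2`: `N_G(B) ≤ M` and `N_L(B)` is a complement of
  `L_σ` in `L` (contained in `M`).
-/

set_option autoImplicit false

namespace Cfsg.Agent.Lib.Helper75.BG

open Cfsg Cfsg.Agent.Lib.Helper46 Cfsg.Agent.Lib.Helper35.BG

universe u

variable {G : Type u} [Group G] [Finite G]

/-- Lemma T (see the module docstring). -/
theorem lemT (hG : IsMinSimpleOddOrder G)
    (h1403 : type_of% (@Cfsg.CfsgFrozen.S1403 G _ _ hG))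
    (h1404 : type_of% (@Cfsg.CfsgFrozen.S1404 G _ _ hG))
    (h1405 : type_of% (@Cfsg.CfsgFrozen.S1405 G _ _ hG))
    (h1417 : type_of% (@Cfsg.CfsgFrozen.S1417 G _ _ hG))
    (h1418 : type_of% (@Cfsg.CfsgFrozen.S1418 G _ _ hG))
    (h1420 : type_of% (@Cfsg.CfsgFrozen.S1420 G _ _ hG))
    (h1424 : type_of% (@Cfsg.CfsgFrozen.S1424 G _ _ hG))
    {M L : Subgroup G} (hM : IsCoatom M) (hL : IsCoatom L) (hLM : L ≠ M)
    {t : ℕ} [Fact t.Prime] (ht : t ∈ sigma M)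
    {X : Subgroup G} (hXt : IsPGroup t X) (hX1 : X ≠ ⊥) (hXM : X ≤ M)
    (hNX : Subgroup.normalizer (X : Set G) ≤ L)
    {S : Subgroup G} (hS : IsSylowIn t S (M ⊓ L)) (hXS : X ≤ S) :
    (∀ g : G, L ≠ M.map (MulAut.conj g).toMonoidHom) ∧ IsSylowIn t S L ∧
      Subgroup.normalizer (S : Set G) ≤ M ∧
      ((t ∈ sigma L ∧ IsSylowIn t S ⊤ ∧ Subgroup.normalizer (S : Set G) ≤ L ∧
          t ∉ alpha M ∧ t ∉ alpha L) ∨
       (t ∉ sigma L ∧ t ∈ tau2 L ∧ Group.IsNilpotent (sigmaCore L) ∧ sigmaCore L ⊓ M = ⊥ ∧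
          ¬ IsCyclic S ∧
          ∀ B : Subgroup G, B ≤ S → IsElementaryAbelian t B → Nat.card B = t ^ 2 →
            Subgroup.normalizer (B : Set G) ≤ M ∧
            IsComplIn (L ⊓ Subgroup.normalizer (B : Set G)) (sigmaCore L) L ∧
            L ⊓ Subgroup.normalizer (B : Set G) ≤ M)) := by
  have htp : t.Prime := Fact.out
  obtain ⟨S₀, hS₀⟩ := hS.exists_sylow
  have h24 := h1424 M hM t ht X hXt hX1 hXM L hL hLM hNX S₀ (by rw [hS₀]; exact hXS)
  rw [hS₀] at h24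
  obtain ⟨hnc, hNS, hnd⟩ := h24
  have hSt : IsPGroup t S := sylIn_isPGroup hS
  have hSL : S ≤ L := hS.1.trans inf_le_right
  have hSM : S ≤ M := hS.1.trans inf_le_left
  have hS1 : S ≠ ⊥ := fun h => hX1 (le_bot_iff.mp (h ▸ hXS))
  have hSylL : IsSylowIn t S L :=
    Cfsg.Agent.Lib.Helper13.BG.isSylowIn_of_not_dvd_relIndex hSt hSL hnd
  have hnc' : ∀ g : G, M ≠ L.map (MulAut.conj g).toMonoidHom := by
    intro g hg
    apply hnc g⁻¹
    rw [hg, Cfsg.Agent.Lib.Helper35.BG.map_conj_mul, inv_mul_cancel,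
      Cfsg.Agent.Lib.Helper35.BG.map_conj_one]
  refine ⟨hnc, hSylL, hNS, ?_⟩
  by_cases htL : t ∈ sigma L
  · left
    refine ⟨htL, isSylowIn_top_of_sigma htL hSylL, normalizer_le_of_sigma htL hSylL, ?_, ?_⟩
    · intro hα
      exact Cfsg.Agent.Lib.Helper13.BG.alpha_sigma_disjoint hG h1403 hL hM hnc' hα htL
    · intro hα
      exact Cfsg.Agent.Lib.Helper13.BG.alpha_sigma_disjoint hG h1403 hM hL hnc hα ht
  · right
    have ht2 : t ≠ 2 := Cfsg.Agent.Lib.Helper13.BG.prime_ne_two13 hG (X := M) ht.2.1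
    -- `S` is not cyclic
    have hSnc : ¬ IsCyclic S := by
      intro hcyc
      have h1 : Subgroup.normalizer (S : Set G) ≤ L :=
        (Cfsg.Agent.Lib.Helper77.normalizer_le_normalizer_of_isCyclic hcyc hXS).trans hNX
      exact htL (Cfsg.Agent.Lib.Helper13.BG.mem_sigma_of_sylIn hSylL hS1 h1)
    obtain ⟨B₀, hB₀S, hB₀, hB₀c⟩ :=
      Cfsg.Agent.Lib.Helper2.BG.exists_ea_sq_of_not_isCyclic ht2 hSt hSnc
    -- `t ∈ τ₂(L)`
    have hr1 : ¬ PRankLE t 1 L :=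
      Cfsg.Agent.Lib.Helper13.BG.not_pRankLE_one_of_le hB₀ hB₀c (hB₀S.trans hSL)
    have hr2 : PRankLE t 2 L := by
      by_contra hcon
      exact htL (Cfsg.Agent.Lib.Helper78.BG.alpha_subset_sigma hG h1403 L hL ⟨htp, hcon⟩)
    have htau : t ∈ tau2 L := ⟨htp, htL, hr2, hr1⟩
    have h17 := h1417 L hL t htau B₀ ⟨hB₀S.trans hSL, hB₀, hB₀c⟩
    have hnil : Group.IsNilpotent (sigmaCore L) := h17.1
    have hLσM : sigmaCore L ⊓ M = ⊥ :=
      h17.2.2.2.2.1 M hM (Ne.symm hLM) (hB₀S.trans hSM)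
    refine ⟨htL, htau, hnil, hLσM, hSnc, ?_⟩
    intro B hBS hB hBc
    have hBt : IsPGroup t B := hSt.to_le hBS
    -- `N(B) ≤ M` by S1420(c) for `M`
    have hHallM := (Cfsg.Agent.Lib.Helper66.BG.s1350_core hG h1404 h1405 M hM).1
    obtain ⟨EM, hEM⟩ := Cfsg.Agent.Lib.Helper67.BG.exists_compl_sigmaCore M hHallM
    have hBnc : ¬ IsCyclic B := by
      intro hcyc
      have h1 : PRankLE t 1 B := Cfsg.Agent.Lib.Helper13.BG.pRankLE_one_of_isCyclic hcyc
      exact Cfsg.Agent.Lib.Helper13.BG.not_le_of_pRankLE_one h1 hB hBc le_rfl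
    have hNB : Subgroup.normalizer (B : Set G) ≤ M :=
      (h1420 M hM EM hEM).2.2.1 t B ht hBt (hBS.trans hSM) hBnc
    -- a complement of `L_σ` in `L` containing `B`
    have hHallL := (Cfsg.Agent.Lib.Helper66.BG.s1350_core hG h1404 h1405 L hL).1
    obtain ⟨EL, hEL, hBEL⟩ := Cfsg.Agent.Lib.Helper76.BG.exists_compl_ge hG L hL hHallL B
      (hBS.trans hSL) (by
        intro q hq hdvd
        have hqt : q = t := by
          obtain ⟨n, hn⟩ := IsPGroup.iff_card.mp hBt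
          rw [hn] at hdvd
          exact (Nat.prime_dvd_prime_iff_eq hq htp).mp (hq.dvd_of_dvd_pow hdvd)
        rw [hqt]; exact htL)
    have h18 := h1418 L hL EL hEL t htau B ⟨hBEL, hB, hBc⟩
    have hEq : L ⊓ Subgroup.normalizer (B : Set G) = EL := h18.2.1.2.1
    refine ⟨hNB, ?_, inf_le_right.trans hNB⟩
    rw [hEq]; exact hEL

end Cfsg.Agent.Lib.Helper75.BG
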