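import Mathlib
import Cfsg.Agent.Lib.Helper95.BG.S1428Defs
import Cfsg.Agent.Lib.Helper75.BG.LemT

/-!
# S1428 project (helper95), package T in package form (helper75)

`lemT_pkg : Cfsg.Agent.Lib.Helper95.BG28.LemT`, deduced from `Cfsg.Agent.Lib.Helper75.BG.lemT`.
-/

set_option autoImplicit false

namespace Cfsg.Agent.Lib.Helper75.BG

open Cfsg Cfsg.Agent.Lib.Helper46 Cfsg.Agent.Lib.Helper35.BG

universe u

/-- Package T of the S1428 project. -/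
theorem lemT_pkg : Cfsg.Agent.Lib.Helper95.BG28.LemT.{u} := by
  intro G _ _ hG hy M L hM hL hLM t ht X hXt hX1 hXM hNX
  have : Fact t.Prime := ⟨ht.1⟩
  have hXL : X ≤ L := Subgroup.le_normalizer.trans hNX
  obtain ⟨S, hS, hXS⟩ := exists_isSylowIn_ge hXt (le_inf hXM hXL)
  obtain ⟨hnc, hSylL, hNS, hcase⟩ := lemT hG hy.h1403 hy.h1404 hy.h1405 hy.h1417 hy.h1418
    hy.h1420 hy.h1424 hM hL hLM ht hXt hX1 hXM hNX hS hXS
  refine ⟨hnc, ?_⟩
  rcases hcase with ⟨htL, htop, hNL, hαM, hαL⟩ | ⟨htL, htau, -, hLσM, hSnc, hB⟩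
  · left
    exact ⟨htL, S, hXS, htop, hNS, hNL, fun h => hαM h.1, fun h => hαL h.1⟩
  · right
    have ht2 : t ≠ 2 := Cfsg.Agent.Lib.Helper13.BG.prime_ne_two13 hG (X := M) ht.2.1
    obtain ⟨B, hBS, hBea, hBc⟩ :=
      Cfsg.Agent.Lib.Helper2.BG.exists_ea_sq_of_not_isCyclic ht2 (sylIn_isPGroup hS) hSnc
    obtain ⟨-, hcompl, hFM⟩ := hB B hBS hBea hBc
    exact ⟨htau, hLσM, B, L ⊓ Subgroup.normalizer (B : Set G),
      le_inf (hBS.trans hSylL.1) Subgroup.le_normalizer, hBea, hBc, hcompl, hFM⟩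

end Cfsg.Agent.Lib.Helper75.BG
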